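import Mathlib

/-!
The `r`-part of `q ^ i - 1` for `i` prime to `r`, and Sylow subgroups isomorphic to a homocyclic torus part.
-/

set_option autoImplicit false

namespace CfsgLib.TorusSylow

open Polynomial

variable {r q : ℕ} [Fact r.Prime]

theorem dvd_pow_sub_one_iff (hq : 1 ≤ q) (i : ℕ) : r ∣ q ^ i - 1 ↔ orderOf (q : ZMod r) ∣ i := by
  rw [orderOf_dvd_iff_pow_eq_one, ← (ZMod.natCast_eq_zero_iff _ r),
    Nat.cast_sub (Nat.one_le_pow _ _ hq), sub_eq_zero, Nat.cast_pow, Nat.cast_one]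

theorem orderOf_pos_of_not_dvd (hrq : ¬ r ∣ q) : 0 < orderOf (q : ZMod r) := by
  refine Nat.pos_of_ne_zero fun h => ?_
  have hne : (q : ZMod r) ≠ 0 := fun h' => hrq (((ZMod.natCast_eq_zero_iff _ r)).mp h')
  have h1 := orderOf_dvd_of_pow_eq_one (ZMod.pow_card_sub_one_eq_one hne)
  rw [h, zero_dvd_iff] at h1
  have := (Fact.out : r.Prime).two_le
  omega

/-- The `r`-valuation common to all `q ^ i - 1` divisible by `r`. -/
noncomputable def val (r q : ℕ) : ℕ := padicValNat r (q ^ orderOf (q : ZMod r) - 1)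

theorem geom_not_dvd {x : ℕ} (hx : 1 ≤ x) (hdv : r ∣ x - 1) {k : ℕ} (hk : ¬ r ∣ k) :
    ¬ r ∣ ∑ j ∈ Finset.range k, x ^ j := by
  intro h
  have h1 : (x : ZMod r) = 1 := by
    rw [← sub_eq_zero, ← Nat.cast_one, ← Nat.cast_sub hx]
    exact (ZMod.natCast_eq_zero_iff _ r).mpr hdv
  have h2 := (ZMod.natCast_eq_zero_iff _ r).mpr h
  simp [h1] at h2
  exact hk ((ZMod.natCast_eq_zero_iff _ r).mp h2)

theorem padic_pow_sub_one (hq : 2 ≤ q) {i : ℕ} (hi : 0 < i) (hir : ¬ r ∣ i) :
    padicValNat r (q ^ i - 1) = if orderOf (q : ZMod r) ∣ i then val r q else 0 := by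
  split_ifs with h
  · obtain ⟨k, hk⟩ := h
    set d := orderOf (q : ZMod r)
    have hd : 0 < d := Nat.pos_of_ne_zero fun h => by rw [h, zero_mul] at hk; omega
    have hx1 : 2 ≤ q ^ d := hq.trans (Nat.le_self_pow hd.ne' q)
    have hdvd : r ∣ q ^ d - 1 := (dvd_pow_sub_one_iff (by omega) d).mpr dvd_rfl
    have hkr : ¬ r ∣ k := fun h => hir (hk ▸ dvd_mul_of_dvd_right h d)
    have hg := geom_not_dvd (by omega : 1 ≤ q ^ d) hdvd hkr
    have he : q ^ i - 1 = (∑ j ∈ Finset.range k, (q ^ d) ^ j) * (q ^ d - 1) := by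
      rw [hk, pow_mul]
      have h1 := geom_sum_mul_add (q ^ d - 1) k
      rw [Nat.sub_add_cancel (by omega : 1 ≤ q ^ d)] at h1
      omega
    have hqd : q ^ d - 1 ≠ 0 := by omega
    rw [he, padicValNat.mul (fun h0 => hg (by rw [h0]; exact dvd_zero r)) hqd,
      padicValNat.eq_zero_of_not_dvd hg, zero_add]
    rfl
  · exact padicValNat.eq_zero_of_not_dvd fun h' => h ((dvd_pow_sub_one_iff (by omega) i).mp h')

theorem padic_prod {ι : Type*} (s : Finset ι) (f : ι → ℕ) (hf : ∀ i ∈ s, f i ≠ 0) :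
    padicValNat r (∏ i ∈ s, f i) = ∑ i ∈ s, padicValNat r (f i) := by
  classical
  induction s using Finset.induction with
  | empty => simp
  | @insert a s ha ih =>
    rw [Finset.prod_insert ha, Finset.sum_insert ha,
      padicValNat.mul (hf a (Finset.mem_insert_self _ _))
        (Finset.prod_ne_zero_iff.mpr fun i hi => hf i (Finset.mem_insert_of_mem hi)),
      ih fun i hi => hf i (Finset.mem_insert_of_mem hi)]

theorem padic_prod_pow (hq : 2 ≤ q) (hrq : ¬ r ∣ q) (c : ℕ) (s : Finset ℕ) (g : ℕ → ℕ)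
    (hg : ∀ i ∈ s, 0 < g i ∧ ¬ r ∣ g i) :
    padicValNat r (q ^ c * ∏ i ∈ s, (q ^ g i - 1)) =
      (s.filter fun i => orderOf (q : ZMod r) ∣ g i).card * val r q := by
  have hne : ∀ i ∈ s, q ^ g i - 1 ≠ 0 := fun i hi => by
    have : 2 ≤ q ^ g i := hq.trans (Nat.le_self_pow (hg i hi).1.ne' q)
    omega
  rw [padicValNat.mul (pow_ne_zero _ (by omega)) (Finset.prod_ne_zero_iff.mpr hne),
    padicValNat.eq_zero_of_not_dvd (fun h => hrq ((Fact.out : r.Prime).dvd_of_dvd_pow h)), zero_add,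
    padic_prod s _ hne, Finset.sum_congr rfl fun i hi => padic_pow_sub_one hq (hg i hi).1 (hg i hi).2,
    ← Finset.sum_filter, Finset.sum_const, smul_eq_mul]

theorem val_eq_cyclotomic (hq : 2 ≤ q) (hrq : ¬ r ∣ q) :
    padicValNat r ((cyclotomic (orderOf (q : ZMod r)) ℤ).eval (q : ℤ)).natAbs = val r q := by
  set d := orderOf (q : ZMod r) with hdd
  have hd : 0 < d := orderOf_pos_of_not_dvd hrq
  have hprod : ∀ e : ℕ, 0 < e → ((q ^ e - 1 : ℕ) : ℤ) = ∏ c ∈ e.divisors, (cyclotomic c ℤ).eval (q : ℤ) := by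
    intro e he
    rw [← eval_prod, prod_cyclotomic_eq_X_pow_sub_one he]
    simp [Nat.cast_sub (Nat.one_le_pow e q (by omega))]
  have hnd : ∀ c ∈ d.properDivisors, ¬ r ∣ ((cyclotomic c ℤ).eval (q : ℤ)).natAbs := by
    intro c hc h
    obtain ⟨hcd, hlt⟩ := Nat.mem_properDivisors.mp hc
    have hc0 : 0 < c := Nat.pos_of_dvd_of_pos hcd hd
    have h1 : (r : ℤ) ∣ ((q ^ c - 1 : ℕ) : ℤ) := by
      rw [hprod c hc0]
      exact (Int.natCast_dvd.mpr h).trans (Finset.dvd_prod_of_mem _ (Nat.mem_divisors_self c hc0.ne'))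
    have := (dvd_pow_sub_one_iff (by omega) c).mp (Int.natCast_dvd_natCast.mp h1)
    exact absurd (Nat.le_of_dvd hc0 this) (by omega)
  have h := hprod d hd
  rw [← Nat.cons_self_properDivisors hd.ne', Finset.prod_cons] at h
  have h' := congrArg Int.natAbs h
  rw [Int.natAbs_natCast, Int.natAbs_mul] at h'
  have hpos : q ^ d - 1 ≠ 0 := by have := hq.trans (Nat.le_self_pow hd.ne' q); omega
  rw [h'] at hpos
  rw [val, ← hdd, h', padicValNat.mul (left_ne_zero_of_mul hpos) (right_ne_zero_of_mul hpos)]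
  have hz : padicValNat r (∏ x ∈ d.properDivisors, (cyclotomic x ℤ).eval (q : ℤ)).natAbs = 0 := by
    refine padicValNat.eq_zero_of_not_dvd fun hdv => ?_
    rw [show (∏ x ∈ d.properDivisors, (cyclotomic x ℤ).eval (q : ℤ)).natAbs =
      ∏ x ∈ d.properDivisors, ((cyclotomic x ℤ).eval (q : ℤ)).natAbs from map_prod Int.natAbsHom _ _] at hdv
    obtain ⟨c, hc, hcd⟩ := ((Fact.out : r.Prime).prime.dvd_finsetProd_iff _).mp hdv
    exact hnd c hc hcd
  rw [hz, add_zero]

/-- A cyclic piece inside a finite group with an element of the right order. -/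
theorem exists_zmod_hom {H : Type*} [Group H] {m : ℕ} {h : H} (hh : orderOf h = m) :
    ∃ f : Multiplicative (ZMod m) →* H, Function.Injective f := by
  subst hh
  rw [← Nat.card_zpowers h]
  exact ⟨(Subgroup.zpowers h).subtype.comp (zmodCyclicMulEquiv (Subgroup.isCyclic_zpowers h)).toMonoidHom,
    Subtype.val_injective.comp (zmodCyclicMulEquiv (Subgroup.isCyclic_zpowers h)).injective⟩

/-- A Sylow subgroup is isomorphic to any embedded `r`-group of the right order. -/
theorem sylow_iso {G : Type*} [Group G] [Finite G] (P : Sylow r G) {v a : ℕ}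
    (f : (Fin a → Multiplicative (ZMod (r ^ v))) →* G) (hf : Function.Injective f)
    (hv : padicValNat r (Nat.card G) = a * v) :
    Nonempty (↥(P : Subgroup G) ≃* (Fin a → Multiplicative (ZMod (r ^ v)))) := by
  have hcard : Nat.card f.range = r ^ (Nat.card G).factorization r := by
    rw [← Nat.card_congr (MonoidHom.ofInjective hf).toEquiv, Nat.card_fun, Nat.card_fin,
      Nat.card_congr Multiplicative.toAdd, Nat.card_zmod, ← pow_mul,
      Nat.factorization_def _ (Fact.out : r.Prime), hv, mul_comm]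
  let Q : Sylow r G := Sylow.ofCard f.range hcard
  exact ⟨(Sylow.equiv P Q).trans (MonoidHom.ofInjective hf).symm⟩

/-- A group of order divisible by `r ^ v` with cyclic Sylow `r`-subgroup has an element of order `r ^ v`. -/
theorem exists_orderOf_pow {H : Type*} [Group H] [Finite H] (Q : Sylow r H) [IsCyclic ↥(Q : Subgroup H)] {v : ℕ}
    (hv : r ^ v ∣ Nat.card H) : ∃ h : H, orderOf h = r ^ v := by
  have hle : r ^ v ∣ Nat.card ↥(Q : Subgroup H) := by
    rw [Q.card_eq_multiplicity]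
    exact pow_dvd_pow r (((Fact.out : r.Prime).pow_dvd_iff_le_factorization Nat.card_pos.ne').mp hv)
  obtain ⟨h, hh⟩ := IsCyclic.exists_ofOrder_eq_natCard (α := ↥(Q : Subgroup H))
  obtain ⟨c, hc⟩ := hle
  refine ⟨((h ^ c : ↥(Q : Subgroup H)) : H), ?_⟩
  have hc0 : c ≠ 0 := fun h0 => by rw [h0, mul_zero] at hc; exact Nat.card_pos.ne' hc
  rw [Subgroup.orderOf_coe, orderOf_pow' _ hc0, hh, hc, Nat.gcd_eq_right (dvd_mul_left c _),
    Nat.mul_div_cancel _ (Nat.pos_of_ne_zero hc0)]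

/-- A finite cyclic group has an element of each order dividing its own. -/
theorem exists_orderOf_of_dvd {H : Type*} [Group H] [Finite H] [IsCyclic H] {m : ℕ}
    (h : m ∣ Nat.card H) : ∃ x : H, orderOf x = m := by
  obtain ⟨g, hg⟩ := IsCyclic.exists_ofOrder_eq_natCard (α := H)
  obtain ⟨c, hc⟩ := h
  have hc0 : c ≠ 0 := fun h0 => by rw [h0, mul_zero] at hc; exact Nat.card_pos.ne' hc
  exact ⟨g ^ c, by rw [orderOf_pow' _ hc0, hg, hc, Nat.gcd_eq_right (dvd_mul_left c _),
    Nat.mul_div_cancel _ (Nat.pos_of_ne_zero hc0)]⟩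

end CfsgLib.TorusSylow
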